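import Groth.Agent.Lib.CatFrac.Pullback
import Mathlib.CategoryTheory.Limits.Shapes.Products

/-!
# Coproducts in a localization with a calculus of right fractions
-/

universe w v₁ v₂ u₁ u₂

open CategoryTheory CategoryTheory.Limits

namespace Groth.Agent.CatFrac

variable {C : Type u₁} [Category.{v₁} C] (W : MorphismProperty C) [W.HasRightCalculusOfFractions]
  {D : Type u₂} [Category.{v₂} D] (L : C ⥤ D) [L.IsLocalization W]

include W in
/-- A coproduct stays a coproduct in the localization if `W` is closed under coproducts of that shape. -/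
theorem isColimit_map_cofan {σ : Type w}
    (hsum : ∀ (P P' : σ → C) (c : Cofan P), IsColimit c → ∀ (s : ∀ i, P' i ⟶ P i), (∀ i, W (s i)) →
      ∃ (c' : Cofan P') (hc' : IsColimit c'), W (Cofan.IsColimit.desc hc' fun i => s i ≫ c.inj i))
    {P : σ → C} {S : C} (inj : ∀ i, P i ⟶ S) (hc : IsColimit (Cofan.mk S inj)) :
    Nonempty (IsColimit (Cofan.mk (L.obj S) fun i => L.map (inj i))) := by
  have := Localization.essSurj L W
  have hex : ∀ {E : D} (a : ∀ i, L.obj (P i) ⟶ E), ∃ g : L.obj S ⟶ E, ∀ i, L.map (inj i) ≫ g = a i := by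
    intro E a
    let e := L.objObjPreimageIso E
    choose P' s hs f hf using fun i => exists_roof W L (a i ≫ e.inv)
    obtain ⟨c', hc', hW⟩ := hsum P P' _ hc s hs
    have : IsIso (L.map (Cofan.IsColimit.desc hc' fun i => s i ≫ inj i)) := isIso_map W L hW
    refine ⟨inv (L.map (Cofan.IsColimit.desc hc' fun i => s i ≫ inj i)) ≫
      L.map (Cofan.IsColimit.desc hc' f) ≫ e.hom, fun i => ?_⟩
    have := isIso_map W L (hs i)
    rw [← cancel_epi (L.map (s i))]
    have h1 : L.map (s i) ≫ L.map (inj i) =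
        L.map (c'.inj i) ≫ L.map (Cofan.IsColimit.desc hc' fun i => s i ≫ inj i) := by
      rw [← L.map_comp, ← L.map_comp, Cofan.IsColimit.fac]
    rw [reassoc_of% h1, IsIso.hom_inv_id_assoc, ← L.map_comp_assoc, Cofan.IsColimit.fac, ← hf i]
    simp
  have huniq : ∀ {E : D} (g g' : L.obj S ⟶ E), (∀ i, L.map (inj i) ≫ g = L.map (inj i) ≫ g') → g = g' := by
    intro E g g' h
    let e := L.objObjPreimageIso E
    rw [← cancel_mono e.inv]
    obtain ⟨S', t, ht, u, v, hu, hv⟩ := exists_roof₂ W L (g ≫ e.inv) (g' ≫ e.inv)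
    have := isIso_map W L ht
    rw [← cancel_epi (L.map t), hu, hv]
    have key : ∀ i, ∃ (P'' : C) (r : P'' ⟶ P i) (k : P'' ⟶ S'), W r ∧ k ≫ t = r ≫ inj i ∧ k ≫ u = k ≫ v := by
      intro i
      obtain ⟨ψ, hψ⟩ := (MorphismProperty.LeftFraction.mk (inj i) t ht).exists_rightFraction
      dsimp at hψ
      have hψ' : L.map (ψ.f ≫ u) = L.map (ψ.f ≫ v) := by
        have h2 : ∀ (w : S' ⟶ L.objPreimage E) (k : L.obj S ⟶ L.obj (L.objPreimage E)), L.map t ≫ k = L.map w →
            L.map (ψ.f ≫ w) = L.map ψ.s ≫ L.map (inj i) ≫ k := fun w k hk => by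
          rw [L.map_comp, ← hk, ← L.map_comp_assoc, ← L.map_comp_assoc, hψ]
        rw [h2 u _ hu, h2 v _ hv, reassoc_of% (h i)]
      obtain ⟨P'', r, hr, heq⟩ := (MorphismProperty.map_eq_iff_precomp L W _ _).mp hψ'
      exact ⟨P'', r ≫ ψ.s, r ≫ ψ.f, W.comp_mem _ _ hr ψ.hs, by simp only [Category.assoc, hψ],
        by simp only [Category.assoc, heq]⟩
    choose P'' r k hr hkt hkuv using key
    obtain ⟨c', hc', hW⟩ := hsum P P'' _ hc r hr
    let K := Cofan.IsColimit.desc hc' k
    have hK : K ≫ t = Cofan.IsColimit.desc hc' fun i => r i ≫ inj i := by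
      refine Cofan.IsColimit.hom_ext hc' _ _ fun i => ?_
      rw [Cofan.IsColimit.fac_assoc, Cofan.IsColimit.fac, hkt]
    have hKuv : K ≫ u = K ≫ v := by
      refine Cofan.IsColimit.hom_ext hc' _ _ fun i => ?_
      rw [Cofan.IsColimit.fac_assoc, Cofan.IsColimit.fac_assoc, hkuv]
    have h2 : IsIso (L.map K) := by
      have : IsIso (L.map (Cofan.IsColimit.desc hc' fun i => r i ≫ inj i)) := isIso_map W L hW
      have : IsIso (L.map K ≫ L.map t) := by rw [← L.map_comp, hK]; infer_instance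
      exact IsIso.of_isIso_comp_right (L.map K) (L.map t)
    rw [← cancel_epi (L.map K), ← L.map_comp, ← L.map_comp, hKuv]
  exact ⟨Cofan.IsColimit.mk _ (fun t => (hex t.inj).choose) (fun t i => (hex t.inj).choose_spec i)
    fun t m hm => huniq _ _ fun i => (hm i).trans ((hex t.inj).choose_spec i).symm⟩

end Groth.Agent.CatFrac
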