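import Mathlib.CategoryTheory.Localization.CalculusOfFractions
import Mathlib.CategoryTheory.Limits.Shapes.Pullback.IsPullback.Defs

/-!
# Pullbacks in a localization with a calculus of right fractions
-/

universe v₁ v₂ u₁ u₂

open CategoryTheory CategoryTheory.Limits

namespace Groth.Agent.CatFrac

variable {C : Type u₁} [Category.{v₁} C] (W : MorphismProperty C) [W.HasRightCalculusOfFractions]
  {D : Type u₂} [Category.{v₂} D] (L : C ⥤ D) [L.IsLocalization W]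

lemma isIso_map {X Y : C} {s : X ⟶ Y} (hs : W s) : IsIso (L.map s) := Localization.inverts L W s hs

lemma exists_roof {Z X : C} (a : L.obj Z ⟶ L.obj X) :
    ∃ (Z' : C) (s : Z' ⟶ Z) (_ : W s) (a' : Z' ⟶ X), L.map s ≫ a = L.map a' := by
  obtain ⟨φ, rfl⟩ := Localization.exists_rightFraction L W a
  exact ⟨_, φ.s, φ.hs, φ.f, φ.map_s_comp_map L _⟩

/-- Two morphisms out of the same object of the localization have a common roof. -/
lemma exists_roof₂ {Z X T : C} (a : L.obj Z ⟶ L.obj X) (b : L.obj Z ⟶ L.obj T) :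
    ∃ (Z' : C) (s : Z' ⟶ Z) (_ : W s) (a' : Z' ⟶ X) (b' : Z' ⟶ T),
      L.map s ≫ a = L.map a' ∧ L.map s ≫ b = L.map b' := by
  obtain ⟨Z₁, s₁, hs₁, a', ha'⟩ := exists_roof W L a
  obtain ⟨Z₂, s₂, hs₂, b', hb'⟩ := exists_roof W L (L.map s₁ ≫ b)
  refine ⟨Z₂, s₂ ≫ s₁, W.comp_mem _ _ hs₂ hs₁, s₂ ≫ a', b', ?_, ?_⟩
  · rw [L.map_comp, Category.assoc, ha', L.map_comp]
  · rw [L.map_comp, Category.assoc, hb']

variable {P X T Y : C} {f : X ⟶ P} {g : T ⟶ P} {p : Y ⟶ X} {q : Y ⟶ T}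

include W in
lemma map_hom_ext (ext : ∀ {Z : C} (u v : Z ⟶ Y), u ≫ p = v ≫ p → u ≫ q = v ≫ q → u = v)
    {E : D} (u v : E ⟶ L.obj Y) (hp : u ≫ L.map p = v ≫ L.map p) (hq : u ≫ L.map q = v ≫ L.map q) :
    u = v := by
  have := Localization.essSurj L W
  let e := L.objObjPreimageIso E
  rw [← cancel_epi e.hom]
  obtain ⟨Z, s, hs, u', v', hu, hv⟩ := exists_roof₂ W L (e.hom ≫ u) (e.hom ≫ v)
  have := isIso_map W L hs
  rw [← cancel_epi (L.map s), hu, hv]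
  have hp' : L.map (u' ≫ p) = L.map (v' ≫ p) := by
    rw [L.map_comp, L.map_comp, ← hu, ← hv]; simp only [Category.assoc, hp]
  obtain ⟨Z₁, s₁, hs₁, h₁⟩ := (MorphismProperty.map_eq_iff_precomp L W _ _).mp hp'
  have hq' : L.map (s₁ ≫ u' ≫ q) = L.map (s₁ ≫ v' ≫ q) := by
    simp only [L.map_comp]; simp only [← reassoc_of% hu, ← reassoc_of% hv, hq]
  obtain ⟨Z₂, s₂, hs₂, h₂⟩ := (MorphismProperty.map_eq_iff_precomp L W _ _).mp hq'
  have heq : (s₂ ≫ s₁) ≫ u' = (s₂ ≫ s₁) ≫ v' := by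
    refine ext _ _ ?_ ?_
    · simp only [Category.assoc, h₁]
    · simpa only [Category.assoc] using h₂
  exact (MorphismProperty.map_eq_iff_precomp L W _ _).mpr ⟨Z₂, _, W.comp_mem _ _ hs₂ hs₁, heq⟩

include W in
lemma exists_map_lift (w : q ≫ g = p ≫ f)
    (lift : ∀ {Z : C} (b : Z ⟶ T) (a : Z ⟶ X), b ≫ g = a ≫ f →
      ∃ (Z' : C) (s : Z' ⟶ Z) (_ : W s) (c : Z' ⟶ Y), c ≫ q = s ≫ b ∧ c ≫ p = s ≫ a)
    {E : D} (b : E ⟶ L.obj T) (a : E ⟶ L.obj X) (h : b ≫ L.map g = a ≫ L.map f) :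
    ∃ c : E ⟶ L.obj Y, c ≫ L.map q = b ∧ c ≫ L.map p = a := by
  have := Localization.essSurj L W
  let e := L.objObjPreimageIso E
  obtain ⟨Z, s, hs, b', a', hb, ha⟩ := exists_roof₂ W L (e.hom ≫ b) (e.hom ≫ a)
  have h' : L.map (b' ≫ g) = L.map (a' ≫ f) := by
    rw [L.map_comp, L.map_comp, ← hb, ← ha]; simp only [Category.assoc, h]
  obtain ⟨Z₁, s₁, hs₁, h₁⟩ := (MorphismProperty.map_eq_iff_precomp L W _ _).mp h'
  obtain ⟨Z₂, s₂, hs₂, c, hcq, hcp⟩ := lift (s₁ ≫ b') (s₁ ≫ a') (by simpa only [Category.assoc] using h₁)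
  have := isIso_map W L hs
  have := isIso_map W L hs₁
  have := isIso_map W L hs₂
  refine ⟨e.inv ≫ inv (L.map s) ≫ inv (L.map s₁) ≫ inv (L.map s₂) ≫ L.map c, ?_, ?_⟩
  · simp only [Category.assoc, ← L.map_comp, hcq]
    simp only [L.map_comp, IsIso.inv_hom_id_assoc, ← hb, Iso.inv_hom_id_assoc]
  · simp only [Category.assoc, ← L.map_comp, hcp]
    simp only [L.map_comp, IsIso.inv_hom_id_assoc, ← ha, Iso.inv_hom_id_assoc]

include W in
/-- A square becomes a pullback in the localization if cones lift after a refinement in `W` and lifts are unique. -/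
theorem isPullback_map (w : q ≫ g = p ≫ f)
    (lift : ∀ {Z : C} (b : Z ⟶ T) (a : Z ⟶ X), b ≫ g = a ≫ f →
      ∃ (Z' : C) (s : Z' ⟶ Z) (_ : W s) (c : Z' ⟶ Y), c ≫ q = s ≫ b ∧ c ≫ p = s ≫ a)
    (ext : ∀ {Z : C} (u v : Z ⟶ Y), u ≫ p = v ≫ p → u ≫ q = v ≫ q → u = v) :
    IsPullback (L.map q) (L.map p) (L.map g) (L.map f) := by
  have w' : L.map q ≫ L.map g = L.map p ≫ L.map f := by rw [← L.map_comp, ← L.map_comp, w]
  choose c hc using fun (s : PullbackCone (L.map g) (L.map f)) => exists_map_lift W L w lift s.fst s.snd s.condition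
  exact ⟨⟨w'⟩, ⟨PullbackCone.IsLimit.mk w' c (fun s => (hc s).1) (fun s => (hc s).2)
    fun s m h₁ h₂ => map_hom_ext W L ext _ _ (h₂.trans (hc s).2.symm) (h₁.trans (hc s).1.symm)⟩⟩

end Groth.Agent.CatFrac
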